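import Cfsg.Agent.Lib.Recog.CIT.SimpleNormal

/-!
Groups whose prime graph isolates the prime two, and their quotient by the 2-core.
-/

set_option autoImplicit false
set_option linter.dupNamespace false
set_option linter.unusedSectionVars false
set_option linter.style.haveILetI false

namespace CfsgLib.Recog.CITGraph

open Cfsg CIT
open EPPOTwo (IsTwo isPGroup_of_isTwo)

universe u

variable {G : Type u} [Group G] [Finite G]

theorem exists_involution_of_dvd (h : 2 ∣ Nat.card G) : ∃ t : G, orderOf t = 2 :=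
  haveI : Fact (Nat.Prime 2) := ⟨Nat.prime_two⟩
  exists_prime_orderOf_dvd_card' 2 h

/-- Only the prime two divides the order of an involution centraliser. -/
theorem cit_of_isolated
    (h : ∀ r : ℕ, r.Prime → r ≠ 2 → ¬ ∃ y : G, orderOf y = 2 * r) : CIT G := by
  intro t ht
  rcases Nat.eq_zero_or_pos (Nat.card (Subgroup.centralizer ({t} : Set G))) with h0 | h0
  · exact absurd h0 Nat.card_pos.ne'
  refine IsPGroup.of_card (n := (Nat.card (Subgroup.centralizer ({t} : Set G))).primeFactorsList.length)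
    (Nat.eq_prime_pow_of_unique_prime_dvd h0.ne' fun {r} hr hrd => ?_)
  by_contra hr2
  haveI := Fact.mk hr
  obtain ⟨c, hc⟩ := exists_prime_orderOf_dvd_card' r hrd
  have hct : Commute t (c : G) := (Subgroup.mem_centralizer_singleton_iff.1 c.2).symm
  refine h r hr hr2 ⟨t * (c : G), ?_⟩
  rw [hct.orderOf_mul_eq_mul_orderOf_of_coprime, ht, Subgroup.orderOf_coe, hc]
  rw [ht, Subgroup.orderOf_coe, hc]
  exact (Nat.coprime_primes Nat.prime_two hr).2 (Ne.symm hr2)

/-- The quotient by the 2-core keeps the hypotheses. -/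
theorem quotient_props (h : CIT G) (hns : ¬ Group.IsSolvable G) :
    CIT (G ⧸ pCore 2 G) ∧ ¬ Group.IsSolvable (G ⧸ pCore 2 G) ∧
      pCore 2 (G ⧸ pCore 2 G) = ⊥ := by
  haveI : Fact (Nat.Prime 2) := ⟨Nat.prime_two⟩
  have hp : IsPGroup 2 (pCore 2 G) := Base.isPGroup_pCore 2 G
  refine ⟨h.of_surjective (QuotientGroup.mk' _) (QuotientGroup.mk'_surjective _)
    (by rw [QuotientGroup.ker_mk']; exact hp), fun hs => hns ?_, Base.pCore_quotient_pCore 2 G⟩
  haveI := hs
  haveI : Group.IsNilpotent (pCore 2 G) := hp.isNilpotent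
  haveI : Group.IsSolvable (pCore 2 G) := inferInstance
  exact Group.isSolvable_of_ker_le_range (pCore 2 G).subtype (QuotientGroup.mk' (pCore 2 G))
    (by rw [QuotientGroup.ker_mk', Subgroup.range_subtype])

end CfsgLib.Recog.CITGraph
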