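import Cfsg.Agent.Lib.Recog.CITGraph.Primes
import Cfsg.Agent.Lib.Recog.ThreePrimes
import Cfsg.Agent.Lib.Recog.ZsigmondyPrime
import Cfsg.Agent.Lib.PSL2.Congr

/-!
A group with the prime graph of `PSL₂(2^m)`, `m ≥ 4`, is that group modulo its 2-core, given the
classification of the simple groups in which every involution centraliser is a 2-group.
-/

set_option autoImplicit false
set_option linter.dupNamespace false
set_option linter.unusedSectionVars false
set_option linter.style.haveILetI false

namespace CfsgLib.Recog.CITGraph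

open Cfsg CIT

universe u v

theorem two_eq_zero_zmod_two : (2 : ZMod 2) = 0 := by decide

theorem orderOf_two_zmod_three : orderOf (2 : ZMod 3) = 2 :=
  orderOf_eq_prime (p := 2) (by decide) (by decide)

/-- Spectrum of `PSL₂(2^n)`. -/
theorem spectrum_even {F : Type*} [Field F] [Fintype F] {n : ℕ} (hn : 1 ≤ n)
    (hF : Fintype.card F = 2 ^ n) (N : ℕ) :
    (∃ x : Matrix.ProjectiveSpecialLinearGroup (Fin 2) F, orderOf x = N) ↔
      N = 2 ∨ N ∣ 2 ^ n - 1 ∨ N ∣ 2 ^ n + 1 := by
  obtain ⟨p, hp⟩ := CharP.exists F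
  obtain ⟨k, hpp, hk⟩ := FiniteField.card F p
  haveI := Fact.mk hpp
  obtain rfl : p = 2 := (Nat.prime_dvd_prime_iff_eq hpp Nat.prime_two).1
    (hpp.dvd_of_dvd_pow (hF ▸ hk ▸ dvd_pow_self p k.2.ne'))
  have hd : dTwo F = 1 := by
    rw [dTwo, if_pos (by rw [hF]; exact (Nat.even_pow).2 ⟨even_two, by omega⟩)]
  rw [← Set.mem_range, range_orderOf_PSL_two (F := F) 2, hd, hF, Nat.div_one, Nat.div_one]
  rfl

/-- The odd primes of `PSL₂(2^n)` are those dividing `2^(2n) - 1`. -/
theorem odd_prime_even_iff {F : Type*} [Field F] [Fintype F] {n : ℕ} (hn : 1 ≤ n)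
    (hF : Fintype.card F = 2 ^ n) {r : ℕ} (hr : r.Prime) (hr2 : r ≠ 2) :
    (∃ x : Matrix.ProjectiveSpecialLinearGroup (Fin 2) F, orderOf x = r) ↔
      r ∣ 2 ^ (2 * n) - 1 := by
  rw [spectrum_even hn hF, two_mul, pow_add,
    show 2 ^ n * 2 ^ n - 1 = (2 ^ n + 1) * (2 ^ n - 1) by
      rw [← Nat.mul_self_sub_mul_self_eq, one_mul], hr.dvd_mul]
  exact ⟨fun h => (h.resolve_left hr2).symm, fun h => Or.inr h.symm⟩

theorem exists_primitive {n : ℕ} (hn : 3 ≤ n) (h6 : n ≠ 6) :
    ∃ r : ℕ, ∃ hr : r.Prime, haveI := Fact.mk hr; orderOf (2 : ZMod r) = n := by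
  obtain ⟨r, hr, h⟩ := ZsigmondyPrime.exists_primitive_prime (a := 2) le_rfl hn (fun h => h6 h.2)
  exact ⟨r, hr, by rw [← h, Nat.cast_ofNat]⟩

theorem nonempty_equiv_of_linear_two_graph
    (hknown : ∀ (X : Type u) [Group X] [Finite X], IsSimpleGroup X →
      (∃ a b : X, a * b ≠ b * a) → CIT X → Known X)
    {F : Type v} [Field F] [Fintype F] (m : ℕ) (hm : 4 ≤ m)
    (hF : Fintype.card F = 2 ^ m) {G : Type u} [Group G] [Finite G]
    (hP : ∀ r : ℕ, r.Prime →
      (r ∣ Nat.card (Matrix.ProjectiveSpecialLinearGroup (Fin 2) F) ↔ r ∣ Nat.card G))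
    (hA : ∀ r s : ℕ, r.Prime → s.Prime → r ≠ s →
      ((∃ x : Matrix.ProjectiveSpecialLinearGroup (Fin 2) F, orderOf x = r * s) ↔
        ∃ y : G, orderOf y = r * s)) :
    Nonempty (G ⧸ pCore 2 G ≃* Matrix.ProjectiveSpecialLinearGroup (Fin 2) F) := by
  classical
  have hm1 : 1 ≤ m := by omega
  have spec := spectrum_even hm1 hF
  set q := 2 ^ m with hq
  have hqeven : 2 ∣ q := dvd_pow_self 2 (by omega)
  have hq16 : 16 ≤ q := le_trans (by norm_num) (Nat.pow_le_pow_right two_pos hm)
  have hodd_dvd : ∀ {N : ℕ}, N ∣ q - 1 ∨ N ∣ q + 1 → Odd N := by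
    intro N h
    rcases h with h | h
    · exact Odd.of_dvd_nat (Nat.odd_iff.2 (by omega)) h
    · exact Odd.of_dvd_nat (Nat.odd_iff.2 (by omega)) h
  -- the prime two is isolated
  have hCIT : CIT G := cit_of_isolated fun r hr hr2 hy => by
    obtain ⟨x, hx⟩ := (hA 2 r Nat.prime_two hr (Ne.symm hr2)).2 hy
    rcases (spec _).1 ⟨x, hx⟩ with h | h
    · have := hr.two_le
      omega
    · have := hodd_dvd h
      exact Nat.not_odd_iff_even.2 (even_two_mul r) this
  -- primitive primes
  obtain ⟨r, hrp, hr⟩ := exists_primitive (n := 2 * m) (by omega) (by omega)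
  obtain ⟨s, hsp, e, he3, hem, hse⟩ : ∃ s : ℕ, ∃ hs : s.Prime, ∃ e, 3 ≤ e ∧ e ∣ m ∧
      (haveI := Fact.mk hs; orderOf (2 : ZMod s) = e) := by
    by_cases h6 : m = 6
    · haveI : Fact (Nat.Prime 7) := ⟨by norm_num⟩
      exact ⟨7, by norm_num, 3, le_rfl, by rw [h6]; norm_num,
        orderOf_eq_prime (by decide) (by decide)⟩
    · obtain ⟨s, hs, h⟩ := exists_primitive (n := m) (by omega) h6
      exact ⟨s, hs, m, by omega, dvd_rfl, h⟩
  haveI := Fact.mk hrp
  haveI := Fact.mk hsp
  have hr2 : r ≠ 2 := by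
    rintro rfl
    have : (2 : ZMod 2) = 0 := two_eq_zero_zmod_two
    rw [this, orderOf_zero] at hr
    omega
  have hs2 : s ≠ 2 := by
    rintro rfl
    have : (2 : ZMod 2) = 0 := two_eq_zero_zmod_two
    rw [this, orderOf_zero] at hse
    omega
  have hr9 : 9 ≤ r := by
    have := orderOf_two_lt hr2
    omega
  have hsq : s ∣ q - 1 := dvd_two_pow_sub_one_iff.2 (hse ▸ hem)
  have hrnq : ¬ r ∣ q - 1 := fun h => by
    have := Nat.le_of_dvd (by omega) (dvd_two_pow_sub_one_iff.1 h)
    omega
  have hr2m : r ∣ 2 ^ (2 * m) - 1 := dvd_two_pow_sub_one_iff.2 (dvd_of_eq hr)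
  have hrq : r ∣ q + 1 := by
    rw [two_mul, pow_add, show 2 ^ m * 2 ^ m - 1 = (q + 1) * (q - 1) by
      rw [← Nat.mul_self_sub_mul_self_eq, one_mul]] at hr2m
    exact (hrp.dvd_mul.1 hr2m).resolve_right hrnq
  have hrs : r ≠ s := fun h => hrnq (h ▸ hsq)
  have hsnq : ¬ s ∣ q + 1 := fun h => by
    have h2 : s ∣ 2 := by
      have := Nat.dvd_sub h hsq
      rwa [show q + 1 - (q - 1) = 2 by omega] at this
    exact hs2 ((Nat.prime_dvd_prime_iff_eq hsp Nat.prime_two).1 h2)
  -- orders in the model pass to the group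
  have hmem : ∀ {a : ℕ}, a.Prime → (∃ x : Matrix.ProjectiveSpecialLinearGroup (Fin 2) F,
      orderOf x = a) → ∃ g : G, orderOf g = a := fun ha h =>
    (prime_dvd_card_iff ha).1 ((hP _ ha).1 ((prime_dvd_card_iff ha).2 h))
  have hnadj : ∀ {a b : ℕ}, a.Prime → b.Prime → a ≠ b → a ≠ 2 → b ≠ 2 →
      ¬ (a * b ∣ q - 1) → ¬ (a * b ∣ q + 1) → ¬ ∃ g : G, orderOf g = a * b := by
    intro a b ha hb hab ha2 _ h1 h2 hg
    rcases (spec _).1 ((hA a b ha hb hab).2 hg) with h | h | h
    · exact ha2 ((Nat.prime_dvd_prime_iff_eq ha Nat.prime_two).1 (h ▸ dvd_mul_right a b))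
    · exact h1 h
    · exact h2 h
  have hrsG : ¬ ∃ g : G, orderOf g = r * s := hnadj hrp hsp hrs hr2 hs2
    (fun h => hrnq ((dvd_mul_right r s).trans h)) (fun h => hsnq ((dvd_mul_left s r).trans h))
  have hrG := hmem hrp ((spec r).2 (Or.inr (Or.inr hrq)))
  have hsG := hmem hsp ((spec s).2 (Or.inr (Or.inl hsq)))
  have h2G := hmem Nat.prime_two ((spec 2).2 (Or.inl rfl))
  have hns : ¬ Group.IsSolvable G := by
    intro hs
    rcases adjacent_of_isSolvable hs Nat.prime_two hrp hsp (Ne.symm hr2) (Ne.symm hs2) hrs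
      ((prime_dvd_card_iff Nat.prime_two).2 h2G) ((prime_dvd_card_iff hrp).2 hrG)
      ((prime_dvd_card_iff hsp).2 hsG) with h | h | h
    · obtain ⟨x, hx⟩ := (hA 2 r Nat.prime_two hrp (Ne.symm hr2)).2 h
      rcases (spec _).1 ⟨x, hx⟩ with h' | h'
      · omega
      · exact Nat.not_odd_iff_even.2 (even_two_mul r) (hodd_dvd h')
    · obtain ⟨x, hx⟩ := (hA 2 s Nat.prime_two hsp (Ne.symm hs2)).2 h
      rcases (spec _).1 ⟨x, hx⟩ with h' | h'
      · have := hsp.two_le
        omega
      · exact Nat.not_odd_iff_even.2 (even_two_mul s) (hodd_dvd h')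
    · exact hrsG h
  -- odd primes of the quotient
  have hto : ∀ {a : ℕ}, a.Prime → a ≠ 2 → (∃ y : G ⧸ pCore 2 G, orderOf y = a) →
      a ∣ 2 ^ (2 * m) - 1 := by
    intro a ha ha2 hy
    obtain ⟨g, hg⟩ := (exists_orderOf_iff (ha.odd_of_ne_two ha2)).2 hy
    exact (odd_prime_even_iff hm1 hF ha ha2).1 ((prime_dvd_card_iff ha).1
      ((hP a ha).2 ((prime_dvd_card_iff ha).2 ⟨g, hg⟩)))
  have hfrom : ∀ {a : ℕ}, a.Prime → a ≠ 2 → a ∣ 2 ^ (2 * m) - 1 →
      ∃ y : G ⧸ pCore 2 G, orderOf y = a := fun ha ha2 h =>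
    (exists_orderOf_iff (ha.odd_of_ne_two ha2)).1 (hmem ha ((odd_prime_even_iff hm1 hF ha ha2).2 h))
  have hthree : 3 ∣ 2 ^ (2 * m) - 1 := by
    haveI : Fact (Nat.Prime 3) := ⟨Nat.prime_three⟩
    rw [dvd_two_pow_sub_one_iff, orderOf_two_zmod_three]
    exact dvd_mul_right 2 m
  rcases quotient_shape hCIT hns hknown with ⟨L, ⟨i⟩, -, hk⟩ | ⟨L, hLn, hL⟩
  · rcases hk with ⟨K, _, _, ⟨n, hn2, hK⟩, ⟨f⟩⟩ | hsz
    · -- linear of characteristic two
      have htoK : ∀ {a : ℕ}, a.Prime → a ≠ 2 →
          ((∃ y : G ⧸ pCore 2 G, orderOf y = a) ↔ a ∣ 2 ^ (2 * n) - 1) := by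
        intro a ha ha2
        rw [← odd_prime_even_iff (F := K) (by omega) hK ha ha2]
        exact ⟨fun ⟨y, hy⟩ => ⟨f (i.symm y), by rw [MulEquiv.orderOf_eq, MulEquiv.orderOf_eq, hy]⟩,
          fun ⟨y, hy⟩ => ⟨i (f.symm y), by rw [MulEquiv.orderOf_eq, MulEquiv.orderOf_eq, hy]⟩⟩
      have hmn : m ∣ n := by
        have h := dvd_two_pow_sub_one_iff.1 ((htoK hrp hr2).1 (hfrom hrp hr2 hr2m))
        rw [hr] at h
        exact Nat.dvd_of_mul_dvd_mul_left two_pos h
      obtain ⟨r', hr'p, hr'⟩ := exists_primitive (n := 2 * n) (by omega)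
        (by have := Nat.le_of_dvd (by omega) hmn; omega)
      haveI := Fact.mk hr'p
      have hr'2 : r' ≠ 2 := by
        rintro rfl
        have : (2 : ZMod 2) = 0 := two_eq_zero_zmod_two
        rw [this, orderOf_zero] at hr'
        omega
      have hnm : n ∣ m := by
        have h := dvd_two_pow_sub_one_iff.1
          (hto hr'p hr'2 ((htoK hr'p hr'2).2 (dvd_two_pow_sub_one_iff.2 (dvd_of_eq hr'))))
        rw [hr'] at h
        exact Nat.dvd_of_mul_dvd_mul_left two_pos h
      obtain rfl := Nat.dvd_antisymm hnm hmn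
      obtain ⟨g⟩ := PSL2.nonempty_psl_congr (n := Fin 2)
        (FiniteField.ringEquivOfCardEq (K := K) (K' := F) (by rw [hK, hF]))
      exact ⟨(i.symm.trans f).trans g⟩
    · -- a Suzuki group has order prime to three
      exfalso
      obtain ⟨y, hy⟩ := hfrom Nat.prime_three (by norm_num) hthree
      obtain ⟨-, k, -, hc⟩ := hsz
      have h3 := (prime_dvd_card_iff (H := L) Nat.prime_three).2
        ⟨i.symm y, by rw [MulEquiv.orderOf_eq, hy]⟩
      rw [hc] at h3
      set Q := 2 ^ (2 * k + 1) with hQ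
      have hQ3 : Q % 3 = 2 := by
        rw [hQ, pow_succ, pow_mul, Nat.mul_mod, Nat.pow_mod]
        norm_num
      have hQ1 : 1 ≤ Q := Nat.one_le_two_pow
      have hQs : Q ^ 2 % 3 = 1 := by rw [Nat.pow_mod, hQ3]
      rcases Nat.prime_three.dvd_mul.1 h3 with h | h
      · rcases Nat.prime_three.dvd_mul.1 h with h | h <;> omega
      · omega
  · exfalso
    haveI := hLn
    rcases hL with ⟨K, _, _, hK, ⟨f⟩, j, hj⟩ | ⟨h34, h2L⟩
    · obtain ⟨p, hpc⟩ := CharP.exists K
      haveI := Fact.mk (CharP.char_is_prime K p)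
      obtain ⟨n, hpp, hn⟩ := FiniteField.card K p
      have hodd : Odd (Fintype.card K) := by
        rcases hK with h | ⟨-, h, -⟩
        · rw [h]; decide
        · exact h
      have hd : dTwo K = 2 := by rw [dTwo, if_neg (Nat.not_even_iff_odd.2 hodd)]
      -- spectrum of `L`, odd orders
      have hspec : ∀ {N : ℕ}, Odd N → (∃ y : G ⧸ pCore 2 G, orderOf y = N) →
          N = p ∨ N ∣ (Fintype.card K - 1) / 2 ∨ N ∣ (Fintype.card K + 1) / 2 := by
        intro N hN ⟨y, hy⟩
        have hyL : y ∈ L := mem_of_odd_orderOf L hj (hy ▸ hN)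
        have : N ∈ Set.range (orderOf : Matrix.ProjectiveSpecialLinearGroup (Fin 2) K → ℕ) :=
          ⟨f ⟨y, hyL⟩, by rw [MulEquiv.orderOf_eq, ← Subgroup.orderOf_coe, hy]⟩
        rw [range_orderOf_PSL_two (F := K) p, hd] at this
        exact this
      have hr' := hspec (hrp.odd_of_ne_two hr2) (hfrom hrp hr2 hr2m)
      have hs' := hspec (hsp.odd_of_ne_two hs2) (hfrom hsp hs2 (hsq.trans (by
        rw [two_mul, pow_add, show 2 ^ m * 2 ^ m - 1 = (q + 1) * (q - 1) by
          rw [← Nat.mul_self_sub_mul_self_eq, one_mul]]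
        exact dvd_mul_left _ _)))
      rcases hK with h9 | ⟨hprime, -, k, hk⟩
      · obtain rfl : p = 3 := (Nat.prime_dvd_prime_iff_eq hpp Nat.prime_three).1
          (hpp.dvd_of_dvd_pow (n := 2) (by
            rw [show (3 : ℕ) ^ 2 = Fintype.card K by rw [h9]; norm_num, hn]
            exact dvd_pow_self p n.2.ne'))
        rw [h9] at hr'
        norm_num at hr'
        rcases hr' with h | h | h
        · omega
        · have := Nat.le_of_dvd (by norm_num) h
          omega
        · have := Nat.le_of_dvd (by norm_num) h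
          omega
      · have hKp : Fintype.card K = p :=
          ((Nat.prime_dvd_prime_iff_eq hpp hprime).1 (hn ▸ dvd_pow_self p n.2.ne')).symm
        rw [hKp] at hodd hk hspec hr' hs'
        have hp3 : 3 ≤ p := by
          have := hpp.two_le
          rcases hodd with ⟨c, hc⟩
          omega
        have hk2 : k ≠ 0 := by
          rintro rfl
          simp only [pow_zero] at hk
          omega
        obtain ⟨k, rfl⟩ : ∃ l, k = l + 1 := ⟨k - 1, by omega⟩
        -- the odd part `u` of `(p² - 1) / 4`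
        set u := if p = 2 ^ (k + 1) + 1 then 2 ^ k + 1 else 2 ^ k - 1 with hu
        have hpow : ∀ {a : ℕ}, Odd a → a ∣ 2 ^ k → a = 1 := fun {a} ha h =>
          Nat.eq_one_of_dvd_coprimes ((Nat.coprime_two_right.2 ha).pow_right k) dvd_rfl h
        have hU : ∀ {N : ℕ}, Odd N → N ≠ 1 → N ≠ p →
            (∃ y : G ⧸ pCore 2 G, orderOf y = N) → N ∣ u := by
          intro N hN hN1 hNp hy
          rcases (hspec hN hy).resolve_left hNp with h | h
          · rcases hk with h' | h'
            · exact absurd (hpow hN (by rwa [show (p - 1) / 2 = 2 ^ k by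
                rw [pow_succ] at h'; omega] at h)) hN1
            · rw [hu, if_neg (by omega)]
              rwa [show (p - 1) / 2 = 2 ^ k - 1 by rw [pow_succ] at h'; omega] at h
          · rcases hk with h' | h'
            · rw [hu, if_pos h']
              rwa [show (p + 1) / 2 = 2 ^ k + 1 by rw [pow_succ] at h'; omega] at h
            · exact absurd (hpow hN (by rwa [show (p + 1) / 2 = 2 ^ k by
                rw [pow_succ] at h'; omega] at h)) hN1
        have hpu : ¬ p ∣ u := fun h => by
          have hu0 : 0 < u ∧ u < p := by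
            rcases hk with h' | h'
            · rw [hu, if_pos h', h', pow_succ]
              have := Nat.one_le_two_pow (n := k)
              omega
            · rw [hu, if_neg (by omega)]
              rw [pow_succ] at h'
              omega
          have := Nat.le_of_dvd hu0.1 h
          omega
        have hrY := hfrom hrp hr2 hr2m
        have hsY : ∃ y : G ⧸ pCore 2 G, orderOf y = s :=
          (exists_orderOf_iff (hsp.odd_of_ne_two hs2)).1 hsG
        have he : e ≤ m := Nat.le_of_dvd (by omega) hem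
        by_cases hrp' : r = p
        · -- `p` is the primitive prime of `2^(2m) - 1`
          subst hrp'
          have hsu := hU (hsp.odd_of_ne_two hs2) hsp.ne_one (Ne.symm hrs) hsY
          rcases hk with h' | h'
          · rw [orderOf_two_fermat (by omega) h'] at hr
            obtain rfl : m = k + 1 := by omega
            rw [hu, if_pos h'] at hsu
            have h3 : s ∣ 2 ^ (2 * k) - 1 := by
              rw [two_mul, pow_add, show 2 ^ k * 2 ^ k - 1 = (2 ^ k + 1) * (2 ^ k - 1) by
                rw [← Nat.mul_self_sub_mul_self_eq, one_mul]]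
              exact hsu.mul_right _
            have h4 : e ∣ 2 := by
              have := Nat.dvd_sub (hem.mul_left 2) (hse ▸ dvd_two_pow_sub_one_iff.1 h3)
              rwa [show 2 * (k + 1) - 2 * k = 2 by omega] at this
            have := Nat.le_of_dvd two_pos h4
            omega
          · rw [orderOf_two_mersenne h'] at hr
            rw [hr, two_mul, pow_add] at h'
            have h3 : r = (q + 1) * (q - 1) := by
              rw [← Nat.mul_self_sub_mul_self_eq, one_mul, hq]
              omega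
            rw [h3] at hrp
            exact Nat.not_prime_mul (by omega) (by omega) hrp
        · have hru := hU (hrp.odd_of_ne_two hr2) hrp.ne_one hrp' hrY
          by_cases hsp' : s = p
          · subst hsp'
            rcases hk with h' | h'
            · rw [orderOf_two_fermat (by omega) h'] at hse
              haveI : Fact (Nat.Prime 3) := ⟨Nat.prime_three⟩
              have h3q : 3 ∣ q - 1 := by
                rw [hq, dvd_two_pow_sub_one_iff,
                  orderOf_two_zmod_three]
                exact (Dvd.intro (k + 1) (by omega)).trans hem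
              have hs3 : s ≠ 3 := by
                rintro rfl
                rw [pow_succ] at h'
                have hk0 : k = 0 := by
                  by_contra hk0
                  have := Nat.le_self_pow hk0 2
                  omega
                omega
              have h3s : 3 * s ∣ q - 1 :=
                ((Nat.coprime_primes Nat.prime_three hsp).2 (Ne.symm hs3)).mul_dvd_of_dvd_of_dvd h3q hsq
              have hy := (exists_orderOf_iff (n := 3 * s) ((by decide : Odd 3).mul
                (hsp.odd_of_ne_two hs2))).1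
                ((hA 3 s Nat.prime_three hsp (Ne.symm hs3)).1 ((spec _).2 (Or.inr (Or.inl h3s))))
              exact hpu ((dvd_mul_left s 3).trans (hU ((by decide : Odd 3).mul
                (hsp.odd_of_ne_two hs2)) (by omega) (by omega) hy))
            · rw [orderOf_two_mersenne h'] at hse
              have hnf : ¬ s = 2 ^ (k + 1) + 1 := by omega
              rw [hu, if_neg hnf] at hru
              have h2m := dvd_two_pow_sub_one_iff.1 hru
              rw [hr] at h2m
              have := Nat.le_of_dvd (by omega) h2m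
              omega
          · have hsu := hU (hsp.odd_of_ne_two hs2) hsp.ne_one hsp' hsY
            -- two primes of the cyclic component are adjacent
            have hmul : r * s ∣ u :=
              ((Nat.coprime_primes hrp hsp).2 hrs).mul_dvd_of_dvd_of_dvd hru hsu
            have hin : r * s ∈ Set.range
                (orderOf : Matrix.ProjectiveSpecialLinearGroup (Fin 2) K → ℕ) := by
              rw [range_orderOf_PSL_two (F := K) p, hd, hKp]
              rcases hk with h' | h'
              · right; right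
                rw [hu, if_pos h'] at hmul
                rwa [show (p + 1) / 2 = 2 ^ k + 1 by rw [pow_succ] at h'; omega]
              · right; left
                rw [hu, if_neg (by omega)] at hmul
                rwa [show (p - 1) / 2 = 2 ^ k - 1 by rw [pow_succ] at h'; omega]
            obtain ⟨x, hx⟩ := hin
            refine hrsG ((exists_orderOf_iff ((hrp.odd_of_ne_two hr2).mul
              (hsp.odd_of_ne_two hs2))).2 ⟨(f.symm x : L), ?_⟩)
            rw [Subgroup.orderOf_coe, MulEquiv.orderOf_eq, hx]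
    · -- the projective plane of order four
      obtain ⟨y, hy⟩ := hfrom hrp hr2 hr2m
      have hrY : r ∣ Nat.card (G ⧸ pCore 2 G) := (prime_dvd_card_iff hrp).2 ⟨y, hy⟩
      rw [← L.card_mul_index] at hrY
      rcases hrp.dvd_mul.1 hrY with h | h
      · have h' := h.trans (card_dvd_of_l34 h34)
        rw [show 181440 = 2 ^ 6 * 3 ^ 4 * 5 * 7 by norm_num] at h'
        rcases hrp.dvd_mul.1 h' with h | h
        · rcases hrp.dvd_mul.1 h with h | h
          · rcases hrp.dvd_mul.1 h with h | h
            · have := Nat.le_of_dvd two_pos (hrp.dvd_of_dvd_pow h)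
              omega
            · have := Nat.le_of_dvd (by norm_num) (hrp.dvd_of_dvd_pow h)
              omega
          · have := Nat.le_of_dvd (by norm_num) h
            omega
        · have := Nat.le_of_dvd (by norm_num) h
          omega
      · obtain ⟨hY, -, -⟩ := quotient_props hCIT hns
        obtain ⟨a, ha0, ha, hra⟩ := dvd_sylow_card_sub_one hY L hrp hr2 h h2L
        have h2m := dvd_two_pow_sub_one_iff.1 hra
        rw [hr] at h2m
        have hle := Nat.le_of_dvd (by omega) h2m
        have h7 : 2 ^ 7 ∣ 181440 :=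
          ((pow_dvd_pow 2 (show 7 ≤ a by omega)).trans ha).trans (card_dvd_of_l34 h34)
        norm_num at h7

end CfsgLib.Recog.CITGraph
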