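import Cfsg.Agent.Lib.Recog.CITGraph.Basic
import Cfsg.Agent.Lib.Base.FPF
import Cfsg.Agent.Lib.Recog.ThreePrimes

/-!
Groups over a normal subgroup in which every involution centraliser is a 2-group: the index is a
power of two when the normal subgroup has one class of involutions, and its odd prime divisors
divide one less than the order of a Sylow 2-subgroup of the normal subgroup.
-/

set_option autoImplicit false
set_option linter.dupNamespace false
set_option linter.unusedSectionVars false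
set_option linter.style.haveILetI false

namespace CfsgLib.Recog.CITGraph

open Cfsg CIT
open EPPOTwo (IsTwo isTwo_of_mem sq_eq_one_of_orderOf)

universe u

variable {X : Type u} [Group X] [Finite X]

/-- All involutions of `L` are conjugate in `L`. -/
def OneClass (L : Subgroup X) : Prop :=
  ∀ s ∈ L, ∀ t ∈ L, orderOf s = 2 → orderOf t = 2 → ∃ l ∈ L, l * s * l⁻¹ = t

theorem index_isPow_of_one_class (h : CIT X) (L : Subgroup X) [L.Normal]
    (h2 : 2 ∣ Nat.card L) (h1 : OneClass L) : ∃ j, L.index = 2 ^ j := by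
  haveI : Fact (Nat.Prime 2) := ⟨Nat.prime_two⟩
  obtain ⟨⟨t, htL⟩, ht⟩ := exists_prime_orderOf_dvd_card' 2 h2
  rw [← Subgroup.orderOf_coe] at ht
  set C := Subgroup.centralizer ({t} : Set X)
  let π : C →* X ⧸ L := (QuotientGroup.mk' L).comp C.subtype
  have hπ : Function.Surjective π := by
    intro z
    obtain ⟨g, rfl⟩ := QuotientGroup.mk'_surjective _ z
    obtain ⟨l, hl, hlt⟩ := h1 t htL (g * t * g⁻¹) ((inferInstance : L.Normal).conj_mem t htL g)
      ht (by rw [← MulAut.conj_apply, MulEquiv.orderOf_eq, ht])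
    refine ⟨⟨l⁻¹ * g, Subgroup.mem_centralizer_singleton_iff.2 ?_⟩, ?_⟩
    · calc l⁻¹ * g * t = l⁻¹ * (g * t * g⁻¹) * g := by group
        _ = t * (l⁻¹ * g) := by rw [← hlt]; group
    · show QuotientGroup.mk' L (l⁻¹ * g) = QuotientGroup.mk' L g
      rw [map_mul, show QuotientGroup.mk' L l⁻¹ = 1 from
        (QuotientGroup.eq_one_iff _).2 (inv_mem hl), one_mul]
  obtain ⟨j, hj⟩ := ((h t ht).of_surjective π hπ).exists_card_eq
  exact ⟨j, hj⟩

/-- With index a power of two every element of odd order lies in the subgroup. -/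
theorem mem_of_odd_orderOf (L : Subgroup X) [L.Normal] {j : ℕ} (hj : L.index = 2 ^ j) {x : X}
    (hx : Odd (orderOf x)) : x ∈ L := by
  rw [← QuotientGroup.eq_one_iff, ← orderOf_eq_one_iff]
  refine Nat.eq_one_of_dvd_coprimes ((Nat.coprime_two_right.2 hx).pow_right j)
    (orderOf_map_dvd (QuotientGroup.mk' L) x) (hj ▸ orderOf_dvd_natCard _)

/-- An odd prime dividing the index divides one less than the order of a Sylow 2-subgroup. -/
theorem dvd_sylow_card_sub_one (h : CIT X) (L : Subgroup X) [L.Normal] {r : ℕ} (hr : r.Prime)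
    (hr2 : r ≠ 2) (hrX : r ∣ L.index) (h2 : 2 ∣ Nat.card L) :
    ∃ a, a ≠ 0 ∧ 2 ^ a ∣ Nat.card L ∧ r ∣ 2 ^ a - 1 := by
  haveI : Fact (Nat.Prime 2) := ⟨Nat.prime_two⟩
  haveI := Fact.mk hr
  let S : Sylow 2 L := default
  set S' := (S : Subgroup L).map L.subtype with hS'
  obtain ⟨⟨x, hxn⟩, hx⟩ := exists_prime_orderOf_dvd_card' r
    (hrX.trans (index_dvd_card_normalizer L S))
  rw [← Subgroup.orderOf_coe] at hx
  have hfpf := h.isFPF (A := Subgroup.zpowers x) (V := S')
    (by rw [Nat.card_zpowers, hx]; exact hr.odd_of_ne_two hr2) (S.isPGroup'.map _)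
    (Subgroup.zpowers_le.2 hxn)
  obtain ⟨a, ha⟩ := S.isPGroup'.exists_card_eq
  refine ⟨a, fun h0 => ?_, ha ▸ Subgroup.card_subgroup_dvd_card _, ?_⟩
  · exact S.ne_bot_of_dvd_card h2 ((S : Subgroup L).eq_bot_of_card_eq (by rw [ha, h0, pow_zero]))
  have := hfpf.card_dvd
  rwa [Nat.card_zpowers, hx, hS', Subgroup.card_map_of_injective L.subtype_injective, ha] at this

end CfsgLib.Recog.CITGraph
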