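import Cfsg.Agent.Lib.Recog.CITGraph.Normaliser
import Cfsg.Agent.Lib.Recog.CIT.Top
import Cfsg.Agent.Lib.Recog.ProjSpectrum
import Cfsg.Agent.Lib.CharsMore.BinaryPSL2.PairTools
import Cfsg.Agent.Lib.Classical.Order

/-!
The simple normal subgroup of a nonsolvable group with isolated prime two, and arithmetic of
Fermat and Mersenne primes used to identify it.
-/

set_option autoImplicit false
set_option linter.dupNamespace false
set_option linter.unusedSectionVars false
set_option linter.style.haveILetI false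

namespace CfsgLib.Recog.CITGraph

open Cfsg CIT

universe u

/-! ### Orders of two modulo a prime -/

theorem dvd_two_pow_sub_one_iff {r n : ℕ} [Fact r.Prime] :
    r ∣ 2 ^ n - 1 ↔ orderOf (2 : ZMod r) ∣ n := by
  rw [orderOf_dvd_iff_pow_eq_one, ← ZMod.natCast_eq_zero_iff, Nat.cast_sub Nat.one_le_two_pow,
    Nat.cast_pow, Nat.cast_ofNat, Nat.cast_one, sub_eq_zero]

theorem orderOf_two_lt {r : ℕ} [Fact r.Prime] (hr : r ≠ 2) : orderOf (2 : ZMod r) < r := by
  have h2 : (2 : ZMod r) ≠ 0 := by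
    intro h
    have : r ∣ 2 := by rw [← ZMod.natCast_eq_zero_iff]; exact_mod_cast h
    exact hr ((Nat.prime_dvd_prime_iff_eq Fact.out Nat.prime_two).1 this)
  have h := Nat.le_of_dvd (by have := (Fact.out : r.Prime).two_le; omega)
    (ZMod.orderOf_dvd_card_sub_one h2)
  have := (Fact.out : r.Prime).two_le
  omega

/-- The order of two modulo a Fermat prime. -/
theorem orderOf_two_fermat {p k : ℕ} [Fact p.Prime] (hk : 0 < k) (hp : p = 2 ^ k + 1) :
    orderOf (2 : ZMod p) = 2 * k := by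
  have hdvd : orderOf (2 : ZMod p) ∣ 2 * k := by
    refine dvd_two_pow_sub_one_iff.1 ⟨2 ^ k - 1, ?_⟩
    rw [hp, two_mul, pow_add, ← Nat.mul_self_sub_mul_self_eq, one_mul]
  have hd : p ∣ 2 ^ orderOf (2 : ZMod p) - 1 := dvd_two_pow_sub_one_iff.2 dvd_rfl
  have hpos : 0 < orderOf (2 : ZMod p) := Nat.pos_of_dvd_of_pos hdvd (by omega)
  have hgt : k < orderOf (2 : ZMod p) := by
    by_contra hcon
    push Not at hcon
    have h1 := Nat.pow_le_pow_right two_pos hcon
    have h2 := Nat.le_of_dvd (by have := Nat.one_lt_two_pow hpos.ne'; omega) hd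
    have := Nat.two_pow_pos k
    omega
  obtain ⟨c, hc⟩ := hdvd
  rcases c with _ | _ | c
  · omega
  · omega
  · exfalso
    have := Nat.mul_le_mul_left (orderOf (2 : ZMod p)) (show 2 ≤ c + 1 + 1 by omega)
    omega

/-- The order of two modulo a Mersenne prime. -/
theorem orderOf_two_mersenne {p k : ℕ} [Fact p.Prime] (hp : p + 1 = 2 ^ k) :
    orderOf (2 : ZMod p) = k := by
  have hp2 := (Fact.out : p.Prime).two_le
  have hdvd : orderOf (2 : ZMod p) ∣ k := dvd_two_pow_sub_one_iff.1 (by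
    rw [show 2 ^ k - 1 = p by omega])
  have hk : 0 < k := by
    rcases k with _ | k
    · simp at hp; omega
    · omega
  have hpos : 0 < orderOf (2 : ZMod p) := Nat.pos_of_dvd_of_pos hdvd hk
  have h2 := Nat.le_of_dvd (by have := Nat.one_lt_two_pow hpos.ne'; omega)
    (dvd_two_pow_sub_one_iff.2 dvd_rfl : p ∣ 2 ^ orderOf (2 : ZMod p) - 1)
  have h3 : k ≤ orderOf (2 : ZMod p) := by
    by_contra hcon
    push Not at hcon
    have := Nat.pow_lt_pow_right (a := 2) (by norm_num) hcon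
    omega
  exact le_antisymm (Nat.le_of_dvd hk hdvd) h3

/-! ### The quotient by the 2-core -/

variable {G : Type u} [Group G] [Finite G]

theorem exists_orderOf_iff {n : ℕ} (hn : Odd n) :
    (∃ g : G, orderOf g = n) ↔ ∃ y : G ⧸ pCore 2 G, orderOf y = n := by
  constructor
  · rintro ⟨g, rfl⟩
    refine ⟨(g : G ⧸ pCore 2 G), Nat.dvd_antisymm (orderOf_map_dvd (QuotientGroup.mk' _) g) ?_⟩
    have hmem : g ^ orderOf (g : G ⧸ pCore 2 G) ∈ pCore 2 G := by
      rw [← QuotientGroup.eq_one_iff, QuotientGroup.mk_pow, pow_orderOf_eq_one]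
    refine orderOf_dvd_of_pow_eq_one (eq_one_of_odd_isTwo (hn.of_dvd_nat (orderOf_pow_dvd _))
      (EPPOTwo.isTwo_of_mem (Base.isPGroup_pCore 2 G) hmem))
  · rintro ⟨y, rfl⟩
    obtain ⟨a, rfl⟩ := QuotientGroup.mk_surjective y
    obtain ⟨c, hc⟩ := orderOf_map_dvd (QuotientGroup.mk' (pCore 2 G)) a
    have hc0 : c ≠ 0 := by
      rintro rfl
      rw [mul_zero] at hc
      exact (orderOf_pos a).ne' hc
    refine ⟨a ^ c, ?_⟩
    rw [orderOf_pow' a hc0, hc]
    simp only [QuotientGroup.mk'_apply]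
    rw [Nat.gcd_mul_left_left, Nat.mul_div_cancel _ (Nat.pos_of_ne_zero hc0)]

theorem prime_dvd_card_iff {H : Type*} [Group H] [Finite H] {r : ℕ} (hr : r.Prime) :
    r ∣ Nat.card H ↔ ∃ y : H, orderOf y = r :=
  haveI := Fact.mk hr
  ⟨exists_prime_orderOf_dvd_card' r, fun ⟨y, hy⟩ => hy ▸ orderOf_dvd_natCard y⟩

/-- Involutions of a subgroup isomorphic to `PSL₂` over a field of odd order are conjugate in it. -/
theorem oneClass_psl {X : Type*} [Group X] [Finite X] (L : Subgroup X) {F : Type} [Field F]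
    [Fintype F] (hodd : Odd (Fintype.card F))
    (e : L ≃* Matrix.ProjectiveSpecialLinearGroup (Fin 2) F) : OneClass L := by
  obtain ⟨p, hp⟩ := CharP.exists F
  haveI := Fact.mk (CharP.char_is_prime F p)
  intro s hs t ht hso hto
  let φ : L →* Matrix.ProjGenLinGroup (Fin 2) F :=
    (Matrix.ProjectiveSpecialLinearGroup.toPGL (n := Fin 2) (R := F)).comp e.toMonoidHom
  have hφ : Function.Injective φ :=
    Matrix.ProjectiveSpecialLinearGroup.toPGL_injective.comp e.injective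
  have hmem : ∀ g, φ g ∈ PSL2.pslRange F := fun g => ⟨e g, rfl⟩
  have hinv : ∀ a : L, orderOf (a : X) = 2 → φ a ≠ 1 ∧ φ a * φ a = 1 := fun a ha => by
    rw [Subgroup.orderOf_coe, orderOf_eq_prime_iff, pow_two] at ha
    exact ⟨(map_ne_one_iff _ hφ).2 ha.2, by rw [← map_mul, ha.1, map_one]⟩
  obtain ⟨y, hy, hyc⟩ := CharsMore.BinaryPSL2.invol_conj_odd
    (by rwa [Nat.card_eq_fintype_card]) (hmem ⟨s, hs⟩) (hmem ⟨t, ht⟩) (hinv ⟨s, hs⟩ hso).1
    (hinv ⟨t, ht⟩ hto).1 (hinv ⟨s, hs⟩ hso).2 (hinv ⟨t, ht⟩ hto).2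
  obtain ⟨z, rfl⟩ := hy
  refine ⟨(e.symm z : L), Subtype.coe_prop _, congrArg Subtype.val (hφ (a₁ := e.symm z * ⟨s, hs⟩ *
    (e.symm z)⁻¹) (a₂ := ⟨t, ht⟩) ?_)⟩
  rw [hyc, map_mul, map_mul, map_inv]
  simp [φ]

theorem even_card_psl_odd {F : Type} [Field F] [Fintype F] (hodd : Odd (Fintype.card F)) :
    2 ∣ Nat.card (Matrix.ProjectiveSpecialLinearGroup (Fin 2) F) := by
  have h := Classical.card_PSL_two_mul (F := F)
  rw [Classical.gcd_two_card_sub_one_of_odd (by rwa [Nat.card_eq_fintype_card]),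
    Nat.card_eq_fintype_card (α := F)] at h
  obtain ⟨c, hc⟩ := hodd
  have h1 : Fintype.card F ^ 2 - 1 = 4 * (c * (c + 1)) := by
    rw [hc]
    have : (2 * c + 1) ^ 2 = 4 * (c * (c + 1)) + 1 := by ring
    omega
  rw [h1] at h
  refine ⟨Fintype.card F * (c * (c + 1)), ?_⟩
  have e : Fintype.card F * (4 * (c * (c + 1))) = 2 * (2 * (Fintype.card F * (c * (c + 1)))) := by
    ring
  rw [e] at h
  exact Nat.eq_of_mul_eq_mul_left two_pos h

/-- The three shapes of the quotient by the 2-core. -/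
theorem quotient_shape (hG : CIT G) (hns : ¬ Group.IsSolvable G)
    (hknown : ∀ (X : Type u) [Group X] [Finite X], IsSimpleGroup X →
      (∃ a b : X, a * b ≠ b * a) → CIT X → Known X) :
    (∃ L : Subgroup (G ⧸ pCore 2 G), Nonempty (L ≃* G ⧸ pCore 2 G) ∧ HasSE L ∧
      (IsL2Two L ∨ IsSuzuki L)) ∨
    ∃ L : Subgroup (G ⧸ pCore 2 G), L.Normal ∧
      ((∃ (F : Type) (_ : Field F) (_ : Fintype F),
          (Fintype.card F = 9 ∨ ((Fintype.card F).Prime ∧ Odd (Fintype.card F) ∧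
            ∃ k : ℕ, Fintype.card F = 2 ^ k + 1 ∨ Fintype.card F + 1 = 2 ^ k)) ∧
          Nonempty (L ≃* Matrix.ProjectiveSpecialLinearGroup (Fin 2) F) ∧
          ∃ j, L.index = 2 ^ j) ∨
        (IsL34 L ∧ 2 ∣ Nat.card L)) := by
  obtain ⟨hY, hYns, hYcore⟩ := quotient_props hG hns
  obtain ⟨L, hLn, hLs, hLnab, -⟩ := CIT.exists_simple_normal hY hYns hYcore
  haveI := hLn
  haveI := hLs
  have h2 : 2 ∣ Nat.card L := by
    by_contra h2
    have hs : Group.IsSolvable L := CIT.isSolvable_of_card_odd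
      (Nat.odd_iff.2 (Nat.two_dvd_ne_zero.1 h2))
    obtain ⟨a, b, hab⟩ := hLnab
    haveI := hs
    exact hab (IsSimpleGroup.comm_iff_isSolvable.2 hs a b)
  rcases hknown L hLs hLnab (hY.subgroup L) with ⟨⟨S, D, q, hd⟩, hk⟩ | hodd | h34
  · left
    have htop : L = ⊤ := CIT.eq_top_of_seData hY L hd
    exact ⟨L, ⟨(MulEquiv.subgroupCongr htop).trans Subgroup.topEquiv⟩, ⟨S, D, q, hd⟩, hk⟩
  · right
    obtain ⟨⟨F, i1, i2, hF, ⟨f⟩⟩, M₁, M₂, -, -, -, h8⟩ := hodd
    have hFo : Odd (Fintype.card F) := by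
      rcases hF with h9 | ⟨hp, -⟩
      · rw [h9]; decide
      · refine hp.odd_of_ne_two fun h2' => ?_
        have h8' : 8 ∣ Nat.card L := h8 ▸ Subgroup.card_subgroup_dvd_card (M₁ ⊓ M₂)
        rw [Nat.card_congr f.toEquiv] at h8'
        have h6 := h8'.trans (Subgroup.card_quotient_dvd_card _)
        rw [Classical.card_SL_two, Nat.card_eq_fintype_card, h2'] at h6
        norm_num at h6
    refine ⟨L, hLn, Or.inl ⟨F, i1, i2, hF.imp id (fun h => ⟨h.1, hFo, h.2⟩), ⟨f⟩, ?_⟩⟩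
    exact index_isPow_of_one_class hY L h2 (oneClass_psl L hFo f)
  · exact Or.inr ⟨L, hLn, Or.inr ⟨h34, h2⟩⟩

/-- The order of `PSL₃` over the field with four elements divides `181440`. -/
theorem card_dvd_of_l34 {X : Type*} [Group X] (h : IsL34 X) : Nat.card X ∣ 181440 := by
  obtain ⟨F, _, _, hF, ⟨e⟩⟩ := h
  rw [Nat.card_congr e.toEquiv]
  refine (Subgroup.card_quotient_dvd_card _).trans ?_
  refine (Subgroup.card_dvd_of_injective (Matrix.SpecialLinearGroup.toGL (n := Fin 3) (R := F))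
    Matrix.SpecialLinearGroup.toGL_injective).trans ?_
  rw [Matrix.card_GL_field, hF, Fin.prod_univ_three]
  norm_num

end CfsgLib.Recog.CITGraph
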