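import Cfsg.Agent.Lib.Recog.CITGraph.LinearTwo
import Cfsg.Agent.Lib.Recog.SzIso.Suzuki
import Cfsg.Agent.Lib.KnownA.Suzuki.Count
import Cfsg.Agent.Lib.Recog.CIT.NoSection

/-!
A group with the prime graph of a Suzuki group is that group modulo its 2-core, given the
classification of the simple groups in which every involution centraliser is a 2-group.
-/

set_option autoImplicit false
set_option linter.dupNamespace false
set_option linter.unusedSectionVars false
set_option linter.style.haveILetI false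

namespace CfsgLib.Recog.CITGraph

open Cfsg CIT KnownA.Suzuki

universe u v

theorem map_sz_le {F K : Type*} [Field F] [Field K] (φ : F ≃+* K) (e : ℕ) :
    (Lie.Sz F e).map (Units.mapEquiv φ.mapMatrix.toMulEquiv).toMonoidHom ≤ Lie.Sz K e := by
  rw [Lie.Sz, MonoidHom.map_closure, Subgroup.closure_le]
  rintro _ ⟨g, ⟨hg, hstar⟩, rfl⟩
  refine Subgroup.subset_closure ⟨fun u v => ?_, ?_⟩
  · have h := congrArg φ (hg (φ.symm ∘ u) (φ.symm ∘ v))
    have hu : φ ∘ φ.symm ∘ u = u := funext fun i => φ.apply_symm_apply _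
    have hv : φ ∘ φ.symm ∘ v = v := funext fun i => φ.apply_symm_apply _
    have key : ∀ w : Fin 4 → F, ∀ i, φ (((g : Matrix (Fin 4) (Fin 4) F).mulVec w) i) =
        ((g : Matrix (Fin 4) (Fin 4) F).map φ).mulVec (φ ∘ w) i := fun w i =>
      RingHom.map_mulVec φ.toRingHom (g : Matrix (Fin 4) (Fin 4) F) w i
    simp only [Lie.altForm4, Units.coeHom_apply, map_add, map_mul, key, hu, hv] at h
    simpa [Lie.altForm4] using h
  · have h := congrArg (fun M : Matrix (Fin 4) (Fin 4) F => M.map φ) hstar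
    ext i j
    have h' := congrFun (congrFun h i) j
    simpa [Lie.star4, map_pow] using h'

theorem nonempty_sz_congr {F K : Type*} [Field F] [Field K] (φ : F ≃+* K) (e : ℕ) :
    Nonempty (Lie.Sz F e ≃* Lie.Sz K e) := by
  set E := Units.mapEquiv (φ.mapMatrix (m := Fin 4)).toMulEquiv with hE
  have h : (Lie.Sz F e).map E.toMonoidHom = Lie.Sz K e := by
    refine le_antisymm (map_sz_le φ e) fun x hx => ?_
    refine ⟨E.symm x, ?_, E.apply_symm_apply x⟩
    have := map_sz_le φ.symm e (Subgroup.mem_map_of_mem _ hx)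
    exact this
  exact ⟨(E.subgroupMap _).trans (MulEquiv.subgroupCongr h)⟩

/-- Element orders of a Suzuki group. -/
theorem orderOf_sz {F : Type*} [Field F] [Fintype F] {m : ℕ} (hm : 1 ≤ m)
    (hF : Fintype.card F = 2 ^ (2 * m + 1)) (x : Lie.Sz F (2 ^ (m + 1))) :
    orderOf x ∣ 4 ∨ orderOf x ∣ 2 ^ (2 * m + 1) - 1 ∨ orderOf x ∣ (2 ^ (2 * m + 1)) ^ 2 + 1 := by
  classical
  set H := titsField_of_card (F := F) hF
  by_cases hx : Fpf H x
  · exact Or.inr (Or.inr (orderOf_dvd_sq_add_one H hm hF hx))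
  · obtain ⟨p, hp⟩ : ∃ p, Moves H x p p := by
      by_contra hcon
      exact hx fun p hp => hcon ⟨p, hp⟩
    by_cases hu : ∀ r, Moves H x r r → r = p
    · exact Or.inl (orderOf_dvd_of_pow_eq_one (pow_four_of_unique H hp hu))
    · push Not at hu
      obtain ⟨r, hr, hne⟩ := hu
      have h1 := orderOf_dvd_of_pow_eq_one (pow_card_sub_one_of_two H hne hr hp)
      rw [Nat.card_eq_fintype_card, hF] at h1
      exact Or.inr (Or.inl h1)

/-- The odd primes of a Suzuki group. -/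
theorem odd_prime_sz_iff {F : Type*} [Field F] [Fintype F] {m : ℕ}
    (hF : Fintype.card F = 2 ^ (2 * m + 1)) {r : ℕ} (hr : r.Prime) (hr2 : r ≠ 2) :
    r ∣ Nat.card (Lie.Sz F (2 ^ (m + 1))) ↔
      r ∣ 2 ^ (2 * m + 1) - 1 ∨ r ∣ (2 ^ (2 * m + 1)) ^ 2 + 1 := by
  rw [natCard_Sz (titsField_of_card (F := F) hF), hF]
  constructor
  · intro h
    rcases hr.dvd_mul.1 h with h | h
    · exact Or.inr h
    · rcases hr.dvd_mul.1 h with h | h
      · exact absurd ((Nat.prime_dvd_prime_iff_eq hr Nat.prime_two).1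
          (hr.dvd_of_dvd_pow (hr.dvd_of_dvd_pow h))) hr2
      · exact Or.inl h
  · rintro (h | h)
    · exact dvd_mul_of_dvd_right (dvd_mul_of_dvd_right h _) _
    · exact dvd_mul_of_dvd_left h _

theorem dvd_four_mul {n r : ℕ} (h : r ∣ 2 ^ n - 1 ∨ r ∣ (2 ^ n) ^ 2 + 1) :
    r ∣ 2 ^ (4 * n) - 1 := by
  have e1 : 2 ^ (4 * n) - 1 = ((2 ^ n) ^ 2 + 1) * ((2 ^ n + 1) * (2 ^ n - 1)) := by
    rw [← Nat.mul_self_sub_mul_self_eq, one_mul, ← pow_two,
      ← Nat.mul_self_sub_mul_self_eq, one_mul]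
    congr 1
    ring
  rw [e1]
  rcases h with h | h
  · exact dvd_mul_of_dvd_right (dvd_mul_of_dvd_right h _) _
  · exact dvd_mul_of_dvd_left h _

/-- A primitive prime of `2^(4n) - 1` divides `q² + 1`. -/
theorem exists_prime_sz {m : ℕ} (hm : 1 ≤ m) :
    ∃ r : ℕ, r.Prime ∧ r ≠ 2 ∧ r ∣ (2 ^ (2 * m + 1)) ^ 2 + 1 ∧ ¬ r ∣ 2 ^ (2 * m + 1) - 1 ∧
      ∀ k, r ∣ 2 ^ k - 1 → 4 * (2 * m + 1) ∣ k := by
  obtain ⟨r, hrp, hr⟩ := exists_primitive (n := 4 * (2 * m + 1)) (by omega) (by omega)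
  haveI := Fact.mk hrp
  have key : ∀ k, r ∣ 2 ^ k - 1 → 4 * (2 * m + 1) ∣ k := fun k h =>
    hr ▸ dvd_two_pow_sub_one_iff.1 h
  have hr2 : r ≠ 2 := by
    rintro rfl
    rw [two_eq_zero_zmod_two, orderOf_zero] at hr
    omega
  refine ⟨r, hrp, hr2, ?_, fun h => ?_, key⟩
  · have h := (dvd_two_pow_sub_one_iff (r := r)).2 (dvd_of_eq hr)
    rw [show 2 ^ (4 * (2 * m + 1)) = (2 ^ (2 * m + 1)) ^ 2 * (2 ^ (2 * m + 1)) ^ 2 by ring,
      show (2 ^ (2 * m + 1)) ^ 2 * (2 ^ (2 * m + 1)) ^ 2 - 1 =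
        ((2 ^ (2 * m + 1)) ^ 2 + 1) * ((2 ^ (2 * m + 1)) ^ 2 - 1) by
        rw [← Nat.mul_self_sub_mul_self_eq, one_mul]] at h
    refine (hrp.dvd_mul.1 h).resolve_right fun h' => ?_
    rw [← pow_mul] at h'
    have := Nat.le_of_dvd (by omega) (key _ h')
    omega
  · have := Nat.le_of_dvd (by omega) (key _ h)
    omega

theorem nonempty_equiv_of_suzuki_graph
    (hknown : ∀ (X : Type u) [Group X] [Finite X], IsSimpleGroup X →
      (∃ a b : X, a * b ≠ b * a) → CIT X → Known X)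
    {F : Type v} [Field F] [Fintype F] (m : ℕ) (hm : 1 ≤ m)
    (hF : Fintype.card F = 2 ^ (2 * m + 1)) {G : Type u} [Group G] [Finite G]
    (hP : ∀ r : ℕ, r.Prime → (r ∣ Nat.card (Lie.Sz F (2 ^ (m + 1))) ↔ r ∣ Nat.card G))
    (hA : ∀ r s : ℕ, r.Prime → s.Prime → r ≠ s →
      ((∃ x : Lie.Sz F (2 ^ (m + 1)), orderOf x = r * s) ↔ ∃ y : G, orderOf y = r * s)) :
    Nonempty (G ⧸ pCore 2 G ≃* Lie.Sz F (2 ^ (m + 1))) := by
  classical
  obtain ⟨r, hrp, hr2, hrq, hrnq, hrord⟩ := exists_prime_sz hm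
  set q := 2 ^ (2 * m + 1) with hq
  have hq8 : 8 ≤ q := le_trans (by norm_num) (Nat.pow_le_pow_right two_pos (show 3 ≤ 2 * m + 1 by omega))
  have hqeven : 2 ∣ q := dvd_pow_self 2 (by omega)
  obtain ⟨s, hsp, hs⟩ := Nat.exists_prime_and_dvd (n := q - 1) (by omega)
  have hs2 : s ≠ 2 := by
    rintro rfl
    omega
  have hrs : r ≠ s := fun h => hrnq (h ▸ hs)
  have hsnq : ¬ s ∣ q ^ 2 + 1 := fun h => by
    have h2 : s ∣ 2 := by
      have h3 : s ∣ q ^ 2 - 1 := hs.trans (by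
        rw [pow_two, show q * q - 1 = (q + 1) * (q - 1) by
          rw [← Nat.mul_self_sub_mul_self_eq, one_mul]]
        exact dvd_mul_left _ _)
      have := Nat.dvd_sub h h3
      have h1 := Nat.one_le_pow 2 q (by omega)
      rwa [show q ^ 2 + 1 - (q ^ 2 - 1) = 2 by omega] at this
    exact hs2 ((Nat.prime_dvd_prime_iff_eq hsp Nat.prime_two).1 h2)
  -- no element of order `2a` and none of order `rs`
  have hno : ∀ {a b : ℕ}, a.Prime → b.Prime → a ≠ b → b ≠ 2 →
      ¬ a * b ∣ q - 1 → ¬ a * b ∣ q ^ 2 + 1 → ¬ ∃ g : G, orderOf g = a * b := by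
    intro a b ha hb hab hb2 h1 h2 hg
    obtain ⟨x, hx⟩ := (hA a b ha hb hab).2 hg
    rcases orderOf_sz hm hF x with h | h | h
    · rw [hx] at h
      exact hb2 ((Nat.prime_dvd_prime_iff_eq hb Nat.prime_two).1
        (hb.dvd_of_dvd_pow (n := 2) ((dvd_mul_left b a).trans h)))
    · exact h1 (hx ▸ h)
    · exact h2 (hx ▸ h)
  have h2no : ∀ {b : ℕ}, b.Prime → b ≠ 2 → ¬ ∃ g : G, orderOf g = 2 * b := by
    intro b hb hb2
    refine hno Nat.prime_two hb (Ne.symm hb2) hb2 (fun h => ?_) (fun h => ?_)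
    · have := (dvd_mul_right 2 b).trans h
      omega
    · have h3 : 2 ∣ q ^ 2 := dvd_pow hqeven two_ne_zero
      have := (dvd_mul_right 2 b).trans h
      omega
  have hCIT : CIT G := cit_of_isolated fun b hb hb2 => h2no hb hb2
  have hrG : r ∣ Nat.card G := (hP r hrp).1 ((odd_prime_sz_iff hF hrp hr2).2 (Or.inr hrq))
  have hsG : s ∣ Nat.card G := (hP s hsp).1 ((odd_prime_sz_iff hF hsp hs2).2 (Or.inl hs))
  have h2G : 2 ∣ Nat.card G := by
    refine (hP 2 Nat.prime_two).1 ?_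
    rw [natCard_Sz (titsField_of_card (F := F) hF), hF]
    exact dvd_mul_of_dvd_right (dvd_mul_of_dvd_left (dvd_pow hqeven two_ne_zero) _) _
  have hns : ¬ Group.IsSolvable G := by
    intro hsol
    rcases adjacent_of_isSolvable hsol Nat.prime_two hrp hsp (Ne.symm hr2) (Ne.symm hs2) hrs
      h2G hrG hsG with h | h | h
    · exact h2no hrp hr2 h
    · exact h2no hsp hs2 h
    · exact hno hrp hsp hrs hs2 (fun h => hrnq ((dvd_mul_right r s).trans h))
        (fun h => hsnq ((dvd_mul_left s r).trans h)) h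
  -- odd primes of the quotient
  have hYiff : ∀ {a : ℕ}, a.Prime → a ≠ 2 →
      (a ∣ Nat.card (G ⧸ pCore 2 G) ↔ a ∣ Nat.card (Lie.Sz F (2 ^ (m + 1)))) := by
    intro a ha ha2
    rw [hP a ha, prime_dvd_card_iff ha, prime_dvd_card_iff ha]
    exact (exists_orderOf_iff (ha.odd_of_ne_two ha2)).symm
  have h3Y : ¬ 3 ∣ Nat.card (G ⧸ pCore 2 G) := by
    intro h
    rcases (odd_prime_sz_iff hF Nat.prime_three (by norm_num)).1
      ((hYiff Nat.prime_three (by norm_num)).1 h) with h' | h'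
    all_goals
      have hq3 : q % 3 = 2 := by
        rw [hq, pow_succ, pow_mul, Nat.mul_mod, Nat.pow_mod]
        norm_num
      rw [← hq] at h'
    · omega
    · have : q ^ 2 % 3 = 1 := by rw [Nat.pow_mod, hq3]
      omega
  rcases quotient_shape hCIT hns hknown with ⟨L, ⟨i⟩, ⟨S, D, q₁, hd⟩, hk⟩ | ⟨L, hLn, hL⟩
  · rcases hk with ⟨K, _, _, ⟨n, hn2, hK⟩, ⟨f⟩⟩ | hsz
    · -- three divides the order of the linear group
      refine absurd ?_ h3Y
      haveI : Fact (Nat.Prime 3) := ⟨Nat.prime_three⟩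
      obtain ⟨x, hx⟩ := (odd_prime_even_iff (F := K) (by omega) hK Nat.prime_three (by norm_num)).2
        (by rw [dvd_two_pow_sub_one_iff, orderOf_two_zmod_three]; exact dvd_mul_right 2 n)
      exact (prime_dvd_card_iff Nat.prime_three).2
        ⟨i (f.symm x), by rw [MulEquiv.orderOf_eq, MulEquiv.orderOf_eq, hx]⟩
    · obtain ⟨K, _, _, k, hk1, hK, ⟨f⟩⟩ := SzIso.isoSuzuki_of_isSuzuki hd hsz
      have hsame : ∀ {a : ℕ}, a.Prime → a ≠ 2 →
          (a ∣ Nat.card (Lie.Sz F (2 ^ (m + 1))) ↔ a ∣ Nat.card (Lie.Sz K (2 ^ (k + 1)))) := by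
        intro a ha ha2
        rw [← hYiff ha ha2, Nat.card_congr (i.symm.trans f).toEquiv]
      obtain rfl : k = m := by
        obtain ⟨a, hap, ha2, haq, -, hak⟩ := exists_prime_sz hk1
        have e1 := hrord _ (dvd_four_mul ((odd_prime_sz_iff hK hrp hr2).1
          ((hsame hrp hr2).1 ((odd_prime_sz_iff hF hrp hr2).2 (Or.inr hrq)))))
        have e2 := hak _ (dvd_four_mul ((odd_prime_sz_iff hF hap ha2).1
          ((hsame hap ha2).2 ((odd_prime_sz_iff hK hap ha2).2 (Or.inr haq)))))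
        have := Nat.dvd_antisymm e1 e2
        omega
      obtain ⟨g⟩ := nonempty_sz_congr
        (FiniteField.ringEquivOfCardEq (K := K) (K' := F) (by rw [hK, hF])) (2 ^ (k + 1))
      exact ⟨(i.symm.trans f).trans g⟩
  · refine absurd ?_ h3Y
    refine dvd_trans ?_ (Subgroup.card_subgroup_dvd_card L)
    rcases hL with ⟨K, _, _, hK, ⟨f⟩, -⟩ | ⟨h34, -⟩
    · rw [Nat.card_congr f.toEquiv]
      have h := Classical.card_PSL_two_mul (F := K)
      have hodd : Odd (Fintype.card K) := by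
        rcases hK with h9 | ⟨-, h', -⟩
        · rw [h9]; decide
        · exact h'
      rw [Classical.gcd_two_card_sub_one_of_odd (by rwa [Nat.card_eq_fintype_card]),
        Nat.card_eq_fintype_card (α := K)] at h
      have h3 : 3 ∣ Fintype.card K * (Fintype.card K ^ 2 - 1) := by
        set c := Fintype.card K with hc
        by_cases h0 : 3 ∣ c
        · exact dvd_mul_of_dvd_left h0 _
        · refine dvd_mul_of_dvd_right ?_ _
          have : c ^ 2 % 3 = 1 := by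
            rw [Nat.pow_mod]
            rcases (show c % 3 = 1 ∨ c % 3 = 2 by omega) with h' | h' <;> rw [h']
          omega
      rw [← h] at h3
      exact (Nat.prime_three.dvd_mul.1 h3).resolve_left (by norm_num)
    · obtain ⟨a, -, ha, -, ha1, -, -⟩ := NoSection.exists_two_three h34
      exact (prime_dvd_card_iff Nat.prime_three).2 ⟨a, orderOf_eq_prime ha ha1⟩

end CfsgLib.Recog.CITGraph
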